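import Groth.Agent.L15.Hyper.Stupid
import Mathlib.Algebra.Homology.HomotopyCategory.HomComplexCohomology
import Mathlib.Algebra.Homology.DerivedCategory.KInjective
import Mathlib.CategoryTheory.Abelian.Injective.Ext
import Mathlib.CategoryTheory.Abelian.Injective.Extend

/-!
# Morphisms from an object into a complex, computed term by term
-/

set_option autoImplicit false
set_option backward.isDefEq.respectTransparency false
set_option backward.isDefEq.respectTransparency.types false

universe w v u

open CategoryTheory CategoryTheory.Limits DerivedCategory CochainComplex.HomComplex E1Deg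

noncomputable section

namespace Groth.L17.LocCx

variable {A : Type u} [Category.{v} A] [Abelian A] [HasDerivedCategory.{w} A] (T : A)

/-- The class in `H_T^n` of a cochain map out of `T`. -/
def cls {K : CochainComplex A ℤ} {n : ℤ} (φ : (CochainComplex.singleFunctor A 0).obj T ⟶ K⟦n⟧) : HT T K n :=
  (singleFunctorIsoCompQ A 0).hom.app T ≫ DerivedCategory.Q.map φ ≫
    (DerivedCategory.Q.commShiftIso n).hom.app K

theorem cls_eq_zero_iff {K : CochainComplex A ℤ} {n : ℤ}
    (φ : (CochainComplex.singleFunctor A 0).obj T ⟶ K⟦n⟧) : cls T φ = 0 ↔ DerivedCategory.Q.map φ = 0 := by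
  refine ⟨fun h => ?_, fun h => by simp [cls, h]⟩
  rwa [cls, Preadditive.IsIso.comp_left_eq_zero ((singleFunctorIsoCompQ A 0).hom.app T),
    Preadditive.IsIso.comp_right_eq_zero _ ((DerivedCategory.Q.commShiftIso n).hom.app K)] at h

theorem exists_cls_eq {K : CochainComplex A ℤ} [K.IsKInjective] {n : ℤ} (x : HT T K n) :
    ∃ φ, cls T (K := K) (n := n) φ = x := by
  haveI : (K⟦n⟧).IsKInjective := (CochainComplex.isKInjective_shift_iff K n).2 ‹_›
  obtain ⟨ψ, hψ⟩ := (CochainComplex.IsKInjective.Qh_map_bijective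
    ((HomotopyCategory.quotient A (.up ℤ)).obj ((CochainComplex.singleFunctor A 0).obj T)) (K⟦n⟧)).2 ((DerivedCategory.quotientCompQhIso A).hom.app _ ≫
      (singleFunctorIsoCompQ A 0).inv.app T ≫ x ≫ (DerivedCategory.Q.commShiftIso n).inv.app K ≫
        (DerivedCategory.quotientCompQhIso A).inv.app _)
  obtain ⟨φ, rfl⟩ := (HomotopyCategory.quotient A (.up ℤ)).map_surjective ψ
  refine ⟨φ, ?_⟩
  have h : DerivedCategory.Q.map φ = (DerivedCategory.quotientCompQhIso A).inv.app _ ≫
      DerivedCategory.Qh.map ((HomotopyCategory.quotient A (.up ℤ)).map φ) ≫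
        (DerivedCategory.quotientCompQhIso A).hom.app _ := by
    have := (DerivedCategory.quotientCompQhIso A).hom.naturality φ
    dsimp at this
    rw [this, ← Category.assoc, Iso.inv_hom_id_app]
    exact (Category.id_comp _).symm
  simp [cls, h, hψ]

/-- Vanishing of `H_T^n` of a K-injective complex is exactness of `Hom(T, -)` in degree `n`. -/
theorem exists_factor {K : CochainComplex A ℤ} [K.IsKInjective] (n : ℤ) [Subsingleton (HT T K n)]
    (f : T ⟶ K.X n) (hf : f ≫ K.d n (n + 1) = 0) : ∃ g : T ⟶ K.X (n - 1), g ≫ K.d (n - 1) n = f := by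
  haveI : (K⟦n⟧).IsKInjective := (CochainComplex.isKInjective_shift_iff K n).2 ‹_›
  refine (Cocycle.fromSingleMk_mem_coboundaries_iff f (zero_add n) (n + 1) rfl hf (n - 1) (by omega)).1 ?_
  rw [← CohomologyClass.mk_eq_zero_iff]
  refine (CohomologyClass.toHom_bijective _ _ _).1 ?_
  rw [map_zero, CohomologyClass.toHom_mk]
  refine (CochainComplex.IsKInjective.Qh_map_bijective _ _).1 ?_
  rw [Functor.map_zero]
  have h := (cls_eq_zero_iff T _).1 (Subsingleton.elim (α := HT T K n)
    (cls T (Cocycle.equivHomShift.symm (Cocycle.fromSingleMk f (zero_add n) (n + 1) rfl hf))) 0)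
  rw [← cancel_mono ((DerivedCategory.quotientCompQhIso A).hom.app _), zero_comp]
  exact ((DerivedCategory.quotientCompQhIso A).hom.naturality _).trans
    ((congrArg (_ ≫ ·) h).trans comp_zero)

/-- Exactness of `Hom(T, -)` in degree `n` gives vanishing of `H_T^n`. -/
theorem subsingleton_HT_of_exact {K : CochainComplex A ℤ} [K.IsKInjective] (n : ℤ)
    (h : ∀ f : T ⟶ K.X n, f ≫ K.d n (n + 1) = 0 → ∃ g : T ⟶ K.X (n - 1), g ≫ K.d (n - 1) n = f) :
    Subsingleton (HT T K n) := by
  refine subsingleton_of_forall_eq 0 fun x => ?_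
  obtain ⟨φ, rfl⟩ := exists_cls_eq T x
  obtain ⟨z, rfl⟩ := (Cocycle.equivHomShift (K := (CochainComplex.singleFunctor A 0).obj T) (L := K) (n := n)).symm.surjective φ
  obtain ⟨f, hf, rfl⟩ := Cocycle.fromSingleMk_surjective z n (zero_add n) (n + 1) rfl
  rw [cls_eq_zero_iff, ← cancel_epi ((DerivedCategory.quotientCompQhIso A).hom.app _), comp_zero,
    ← (DerivedCategory.quotientCompQhIso A).hom.naturality _]
  have h0 : CohomologyClass.mk (Cocycle.fromSingleMk f (zero_add n) (n + 1) rfl hf) = 0 := by
    rw [CohomologyClass.mk_eq_zero_iff]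
    exact (Cocycle.fromSingleMk_mem_coboundaries_iff f (zero_add n) (n + 1) rfl hf (n - 1) (by omega)).2 (h f hf)
  have h1 := congrArg CohomologyClass.toHom h0
  rw [CohomologyClass.toHom_mk, map_zero] at h1
  simp [h1]

/-- Invariance under quasi-isomorphisms. -/
theorem subsingleton_HT_congr {K L : CochainComplex A ℤ} (e : DerivedCategory.Q.obj K ≅ DerivedCategory.Q.obj L)
    (n : ℤ) (h : Subsingleton (HT T K n)) : Subsingleton (HT T L n) :=
  (show Function.Surjective fun x : HT T K n => x ≫ e.hom⟦n⟧' from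
    fun y => ⟨y ≫ e.inv⟦n⟧', by simp [← Functor.map_comp]⟩).subsingleton

/-- A complex in degrees above `n` has no `H_T^n`. -/
theorem subsingleton_HT_of_isGE (K : CochainComplex A ℤ) (a n : ℤ) (h : n < a) [K.IsStrictlyGE a] :
    Subsingleton (HT T K n) := by
  haveI : (DerivedCategory.Q.obj K).IsGE a := inferInstance
  refine subsingleton_of_forall_eq 0 fun x => ?_
  have := DerivedCategory.TStructure.t.isGE_shift (DerivedCategory.Q.obj K) a n (a - n) (by omega)
  exact DerivedCategory.TStructure.t.zero x 0 (a - n) (by omega)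

/-- Dévissage along the stupid filtration. -/
theorem subsingleton_HT_of_graded (K : CochainComplex A ℤ) (d n : ℤ) [K.IsStrictlyGE d]
    (h : ∀ m, d ≤ m → m ≤ n → Subsingleton (Groth.L15.Hyper.HG T K m n)) : Subsingleton (HT T K n) := by
  by_cases hdn : n < d
  · exact subsingleton_HT_of_isGE T K d n hdn
  push Not at hdn
  suffices H : ∀ k : ℕ, d ≤ n + 1 - k → Subsingleton (HT T (sigmaGE K (n + 1 - k)) n) by
    have := isIso_sigmaGEι K d (fun m hm => K.isZero_of_isStrictlyGE d m hm)
    have hd := H (n + 1 - d).toNat (by omega)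
    rw [show n + 1 - ((n + 1 - d).toNat : ℤ) = d by omega] at hd
    exact (Groth.L15.Hyper.bijective_HTmap_of_isIso T (sigmaGEι K d) n).2.subsingleton
  intro k
  induction k with
  | zero =>
    intro _
    have : (sigmaGE K (n + 1 - ((0 : ℕ) : ℤ))).IsStrictlyGE (n + 1) :=
      (CochainComplex.isStrictlyGE_iff _ _).2 fun m hm => K.isZero_stupidTrunc_X _ m fun j hj => by
        simp only [ComplexShape.embeddingUpIntGE_f] at hj
        omega
    exact subsingleton_HT_of_isGE T _ (n + 1) n (by omega)
  | succ k ih =>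
    intro hk
    push_cast at hk ⊢
    have h1 := ih (by omega)
    rw [show n + 1 - (k : ℤ) = n + 1 - ((k : ℤ) + 1) + 1 by ring] at h1
    exact Groth.L15.Hyper.subsingleton_mid T (Groth.L15.Hyper.sigmaSeq_shortExact K (n + 1 - ((k : ℤ) + 1))) n h1
      (h _ hk (by omega))

variable (X : A) (J : InjectiveResolution X)

/-- `H_T^q` of an object through an injective resolution. -/
theorem subsingleton_single_of_exact (m n : ℤ) (q : ℕ) (hq : m + q = n)
    (h : ∀ f : T ⟶ J.cochainComplex.X q, f ≫ J.cochainComplex.d q (q + 1) = 0 →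
      ∃ g : T ⟶ J.cochainComplex.X ((q : ℤ) - 1), g ≫ J.cochainComplex.d ((q : ℤ) - 1) q = f) :
    Subsingleton (HT T ((HomologicalComplex.single A (ComplexShape.up ℤ) m).obj X) n) := by
  have h0 := subsingleton_HT_of_exact T (K := J.cochainComplex) (q : ℤ) h
  haveI : IsIso (DerivedCategory.Q.map J.ι') := inferInstance
  have h1 := subsingleton_HT_congr T (asIso (DerivedCategory.Q.map J.ι')).symm _ h0
  have e₁ := Groth.L15.Hyper.singleEquiv T m n X
  have e₀ := Groth.L15.Hyper.singleEquiv T (0 : ℤ) (q : ℤ) X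
  refine e₁.toEquiv.subsingleton_congr.2 ?_
  rw [show n - m = (q : ℤ) - 0 by omega]
  exact e₀.toEquiv.subsingleton_congr.1 h1

end Groth.L17.LocCx
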