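import Groth.Agent.L17.LocCx.SuppHom
import Groth.Prelude.Def_CxOX

/-!
# Morphisms out of `C` are sections with support
-/

set_option autoImplicit false
set_option backward.isDefEq.respectTransparency false
set_option backward.isDefEq.respectTransparency.types false
set_option linter.style.haveILetI false

universe u

open CategoryTheory CategoryTheory.Limits AlgebraicGeometry TopologicalSpace Opposite
open Groth.L18.Frame (rs rs_rs rs_self)

noncomputable section

namespace Groth.L17.LocCx

variable {U X : Scheme.{u}} (j : U ⟶ X) [IsOpenImmersion j] (V : X.Opens)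

theorem res_range_iff (M : X.Modules) (W : X.Opens) (m : Γ(M, W)) :
    rs M (inf_le_left : W ⊓ j.opensRange ≤ W) m = 0 ↔ rs M (j.image_preimage_le W) m = 0 := by
  have e : j ''ᵁ (j ⁻¹ᵁ W) = W ⊓ j.opensRange := by
    rw [Scheme.Hom.image_preimage_eq_opensRange_inf, inf_comm]
  constructor <;> intro h
  · rw [← rs_rs M (inf_le_left : W ⊓ j.opensRange ≤ W) e.le m, h]
    exact map_zero _
  · rw [← rs_rs M (j.image_preimage_le W) e.ge m, h]
    exact map_zero _

theorem gammaι_injective (M : X.Modules) (W : X.Opens) :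
    Function.Injective (((CxOX.gammaZι j).app M).app W) :=
  haveI : PreservesFiniteLimits (toAbShF X) :=
    inferInstanceAs (PreservesFiniteLimits (SheafOfModules.toSheaf.{u} X.ringCatSheaf))
  (AddCommGrpCat.mono_iff_injective _).1
    ((toAbShF X ⋙ Groth.L17.GrothSS.secFun (Opens.grothendieckTopology X) W).map_mono
      (f := kernel.ι ((Scheme.Modules.restrictAdjunction j).unit.app M)))

theorem gammaι_mem (M : X.Modules) (W : X.Opens) (s : Γ((DCoh.gammaZ j).obj M, W)) :
    rs M (inf_le_left : W ⊓ j.opensRange ≤ W) (((CxOX.gammaZι j).app M).app W s) = 0 :=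
  (res_range_iff j M W _).2
    (congr(($(kernel.condition ((Scheme.Modules.restrictAdjunction j).unit.app M))).app W s))

theorem exists_gammaι (M : X.Modules) (W : X.Opens) (m : Γ(M, W))
    (hm : rs M (inf_le_left : W ⊓ j.opensRange ≤ W) m = 0) :
    ∃ s, ((CxOX.gammaZι j).app M).app W s = m := by
  let η := (Scheme.Modules.restrictAdjunction j).unit.app M
  let F := toAbShF X ⋙ Groth.L17.GrothSS.secFun (Opens.grothendieckTopology X) W
  haveI : PreservesFiniteLimits (toAbShF X) :=
    inferInstanceAs (PreservesFiniteLimits (SheafOfModules.toSheaf.{u} X.ringCatSheaf))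
  haveI : PreservesLimit (parallelPair η 0) F := inferInstance
  have hex := (ShortComplex.exact_of_f_is_kernel (ShortComplex.mk (kernel.ι η) η (kernel.condition η))
    (kernelIsKernel η)).map_of_mono_of_preservesKernel F inferInstance inferInstance
  rw [ShortComplex.ab_exact_iff] at hex
  exact hex m ((res_range_iff j M W m).1 hm)

/-- Morphisms `C → M` are sections of `Γ_Z M` over `V`. -/
def homEquiv (M : X.Modules) :
    (C j.opensRange V ⟶ M) ≃+ Γ((DCoh.gammaZ j).obj M, V.ι ''ᵁ ⊤) :=
  have h : ∀ φ : C j.opensRange V ⟶ M, ∃ s, ((CxOX.gammaZι j).app M).app (V.ι ''ᵁ ⊤) s = secOf j.opensRange V φ :=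
    fun φ => exists_gammaι j M _ _ ((res_iff j.opensRange V _).1 (rs_secOf j.opensRange V φ))
  AddEquiv.ofBijective (AddMonoidHom.mk' (fun φ => (h φ).choose) fun φ ψ => by
      apply gammaι_injective j M
      rw [(h _).choose_spec, map_add, (h φ).choose_spec, (h ψ).choose_spec]
      rw [secOf, secOf, secOf, Preadditive.comp_add]
      rfl)
    ⟨fun φ ψ e => secOf_injective j.opensRange V (by
        rw [← (h φ).choose_spec, ← (h ψ).choose_spec]
        exact congrArg _ e),
      fun s => by
        obtain ⟨φ, hφ⟩ := exists_secOf j.opensRange V (((CxOX.gammaZι j).app M).app (V.ι ''ᵁ ⊤) s)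
          ((res_iff j.opensRange V _).2 (gammaι_mem j M _ s))
        exact ⟨φ, gammaι_injective j M _ ((h φ).choose_spec.trans hφ)⟩⟩

theorem gammaι_homEquiv {M : X.Modules} (φ : C j.opensRange V ⟶ M) :
    ((CxOX.gammaZι j).app M).app (V.ι ''ᵁ ⊤) (homEquiv j V M φ) = secOf j.opensRange V φ :=
  (exists_gammaι j M _ _ ((res_iff j.opensRange V _).1 (rs_secOf j.opensRange V φ))).choose_spec

theorem homEquiv_comp {M N : X.Modules} (φ : C j.opensRange V ⟶ M) (ψ : M ⟶ N) :
    homEquiv j V N (φ ≫ ψ) = ((DCoh.gammaZ j).map ψ).app _ (homEquiv j V M φ) := by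
  apply gammaι_injective j N
  rw [gammaι_homEquiv, secOf_comp, ← gammaι_homEquiv j V φ]
  exact (congr(($((CxOX.gammaZι j).naturality ψ)).app (V.ι ''ᵁ ⊤) (homEquiv j V M φ))).symm

/-- Restriction of `C` to `U` vanishes. -/
theorem hom_push_eq_zero' (N : U.Modules) (φ : C j.opensRange V ⟶ (Scheme.Modules.pushforward j).obj N) :
    φ = 0 := by
  refine secOf_injective j.opensRange V ?_
  rw [secOf_zero]
  have h := (res_range_iff j ((Scheme.Modules.pushforward j).obj N) (V.ι ''ᵁ ⊤) (secOf j.opensRange V φ)).1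
    ((res_iff j.opensRange V _).1 (rs_secOf j.opensRange V φ))
  have e : j ⁻¹ᵁ (V.ι ''ᵁ ⊤) ≤ j ⁻¹ᵁ (j ''ᵁ (j ⁻¹ᵁ (V.ι ''ᵁ ⊤))) := by
    rw [Scheme.Hom.preimage_image_eq]
  refine (rs_self N le_rfl (secOf j.opensRange V φ)).symm.trans ?_
  refine Eq.trans ?_ ((congrArg (fun z => rs N e z) h).trans (map_zero _))
  exact (rs_rs N (j.preimage_mono (j.image_preimage_le _)) e _).symm

theorem isZero_restrict : IsZero ((Scheme.Modules.restrictFunctor j).obj (C j.opensRange V)) := by
  rw [IsZero.iff_id_eq_zero]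
  apply ((Scheme.Modules.restrictAdjunction j).homEquiv _ _).injective
  exact (hom_push_eq_zero' j V _ _).trans (hom_push_eq_zero' j V _ _).symm

end Groth.L17.LocCx
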