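import Groth.Agent.L17.LocCx.Generic
import Groth.Agent.L17.LocCx.Sect
import Mathlib.Algebra.Homology.ShortComplex.Ab

/-!
# Sections with support of K-injective complexes compute morphisms out of `C`
-/

set_option autoImplicit false
set_option backward.isDefEq.respectTransparency false
set_option backward.isDefEq.respectTransparency.types false
set_option linter.style.haveILetI false

universe u

open CategoryTheory CategoryTheory.Limits AlgebraicGeometry TopologicalSpace Opposite DerivedCategory
open CochainComplex.HomComplex E1Deg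
open Groth.L18.Frame (rs rs_rs rs_self)

attribute [local instance] HasDerivedCategory.standard

noncomputable section

namespace Groth.L17.LocCx

variable {U X : Scheme.{u}} (j : U ⟶ X) [IsOpenImmersion j] (V : X.Opens)

/-- Morphisms `C → M` are sections of `Γ_Z M` on `V`. -/
def secEquiv (M : X.Modules) : (C j.opensRange V ⟶ M) ≃+ Γ((DCoh.gammaZ j).obj M, V) :=
  (homEquiv j V M).trans
    { toFun := fun s => rs _ (Scheme.Opens.ι_image_top V).ge s
      invFun := fun s => rs _ (Scheme.Opens.ι_image_top V).le s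
      left_inv := fun s => (rs_rs _ _ _ s).trans (rs_self _ _ s)
      right_inv := fun s => (rs_rs _ _ _ s).trans (rs_self _ _ s)
      map_add' := fun a b => map_add _ a b }

theorem secEquiv_comp {M N : X.Modules} (φ : C j.opensRange V ⟶ M) (ψ : M ⟶ N) :
    secEquiv j V N (φ ≫ ψ) = ((DCoh.gammaZ j).map ψ).app V (secEquiv j V M φ) := by
  show rs _ _ (homEquiv j V N (φ ≫ ψ)) = _
  rw [homEquiv_comp]
  exact (app_rs _ _ _).symm

theorem secEquiv_symm_comp {M N : X.Modules} (s : Γ((DCoh.gammaZ j).obj M, V)) (ψ : M ⟶ N) :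
    (secEquiv j V M).symm s ≫ ψ = (secEquiv j V N).symm (((DCoh.gammaZ j).map ψ).app V s) := by
  apply (secEquiv j V N).injective
  rw [secEquiv_comp, AddEquiv.apply_symm_apply, AddEquiv.apply_symm_apply]

variable (I : CochainComplex X.Modules ℤ)

/-- The complex of sections with support over `V`. -/
abbrev secCx : CochainComplex AddCommGrpCat.{u} ℤ :=
  ((DCoh.gammaZ j ⋙ toAbShF X ⋙ Groth.L17.GrothSS.secFun (Opens.grothendieckTopology X) V).mapHomologicalComplex
    (ComplexShape.up ℤ)).obj I

theorem symm_d {p q : ℤ} (s : (secCx j V I).X p) (hs : (secCx j V I).d p q s = 0) :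
    (secEquiv j V (I.X p)).symm s ≫ I.d p q = 0 := by
  rw [secEquiv_symm_comp]
  exact (congrArg _ hs).trans (map_zero _)

/-- The class of a cycle. -/
def cycleClass (n : ℤ) : ((secCx j V I).sc' (n - 1) n (n + 1)).g.hom.ker →+ HT (C j.opensRange V) I n :=
  AddMonoidHom.mk' (fun s => cls (C j.opensRange V) (Cocycle.equivHomShift.symm (Cocycle.fromSingleMk
    ((secEquiv j V (I.X n)).symm s.1) (zero_add n) (n + 1) rfl (symm_d j V I s.1 s.2)))) fun a b => by
    have h : Cocycle.fromSingleMk ((secEquiv j V (I.X n)).symm (a + b).1) (zero_add n) (n + 1) rfl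
        (symm_d j V I (a + b).1 (a + b).2) =
        Cocycle.fromSingleMk ((secEquiv j V (I.X n)).symm a.1) (zero_add n) (n + 1) rfl (symm_d j V I a.1 a.2) +
          Cocycle.fromSingleMk ((secEquiv j V (I.X n)).symm b.1) (zero_add n) (n + 1) rfl
            (symm_d j V I b.1 b.2) := by
      rw [← Cocycle.fromSingleMk_add]
      congr 1
      exact map_add _ _ _
    rw [h, map_add]
    simp only [cls, Functor.map_add, Preadditive.add_comp, Preadditive.comp_add]

variable [I.IsKInjective]

theorem cycleClass_surjective (n : ℤ) : Function.Surjective (cycleClass j V I n) := fun x => by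
  obtain ⟨φ, rfl⟩ := exists_cls_eq (C j.opensRange V) x
  obtain ⟨z, rfl⟩ := (Cocycle.equivHomShift (K := (CochainComplex.singleFunctor X.Modules 0).obj
    (C j.opensRange V)) (L := I) (n := n)).symm.surjective φ
  obtain ⟨f, hf, rfl⟩ := Cocycle.fromSingleMk_surjective z n (zero_add n) (n + 1) rfl
  refine ⟨⟨secEquiv j V (I.X n) f, ?_⟩, ?_⟩
  · show ((DCoh.gammaZ j).map (I.d n (n + 1))).app V _ = 0
    rw [← secEquiv_comp, hf, map_zero]
  · show cls _ (Cocycle.equivHomShift.symm (Cocycle.fromSingleMk _ _ _ _ _)) = _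
    congr 3
    exact (secEquiv j V (I.X n)).symm_apply_apply f

theorem cycleClass_eq_zero_iff (n : ℤ) (s : ((secCx j V I).sc' (n - 1) n (n + 1)).g.hom.ker) :
    cycleClass j V I n s = 0 ↔ ∃ t, (secCx j V I).d (n - 1) n t = s.1 := by
  haveI : (I⟦n⟧).IsKInjective := (CochainComplex.isKInjective_shift_iff I n).2 ‹_›
  show cls _ _ = 0 ↔ _
  let z := Cocycle.fromSingleMk ((secEquiv j V (I.X n)).symm s.1) (zero_add n) (n + 1) rfl (symm_d j V I s.1 s.2)
  have hQ : DerivedCategory.Q.map (Cocycle.equivHomShift.symm z) = 0 ↔ CohomologyClass.toHom (CohomologyClass.mk z) = 0 := by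
    rw [CohomologyClass.toHom_mk, ← (CochainComplex.IsKInjective.Qh_map_bijective _ (I⟦n⟧)).1.eq_iff,
      Functor.map_zero]
    refine ⟨fun h => ?_, fun h => ?_⟩
    · rw [← cancel_mono ((DerivedCategory.quotientCompQhIso X.Modules).hom.app _), zero_comp]
      exact ((DerivedCategory.quotientCompQhIso X.Modules).hom.naturality _).trans
        ((congrArg (_ ≫ ·) h).trans comp_zero)
    · rw [← cancel_epi ((DerivedCategory.quotientCompQhIso X.Modules).hom.app _), comp_zero]
      exact ((DerivedCategory.quotientCompQhIso X.Modules).hom.naturality _).symm.trans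
        ((congrArg (· ≫ _) h).trans zero_comp)
  refine (cls_eq_zero_iff _ _).trans (hQ.trans ((CohomologyClass.toHom_mk_eq_zero_iff z).trans
    ((Cocycle.fromSingleMk_mem_coboundaries_iff _ _ _ rfl _ (n - 1) (by omega)).trans ?_)))
  refine ⟨fun ⟨g, hg⟩ => ⟨secEquiv j V _ g, ?_⟩, fun ⟨t, ht⟩ => ⟨(secEquiv j V _).symm t, ?_⟩⟩
  · show ((DCoh.gammaZ j).map (I.d (n - 1) n)).app V _ = _
    rw [← secEquiv_comp, hg, AddEquiv.apply_symm_apply]
  · rw [secEquiv_symm_comp]
    exact congrArg _ ht

/-- The homology of sections with support. -/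
theorem nonempty_homology_equiv (n : ℤ) :
    Nonempty ((secCx j V I).homology n ≃+ HT (C j.opensRange V) I n) := by
  let S := (secCx j V I).sc' (n - 1) n (n + 1)
  let e : (secCx j V I).homology n ≅ S.homology :=
    ShortComplex.homologyMapIso ((secCx j V I).isoSc' (n - 1) n (n + 1) (by simp) (by simp))
  refine ⟨(e ≪≫ S.abHomologyIso).addCommGroupIsoToAddEquiv.trans
    ((QuotientAddGroup.quotientAddEquivOfEq ?_).trans
      (QuotientAddGroup.quotientKerEquivOfSurjective _ (cycleClass_surjective j V I n)))⟩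
  ext s
  rw [AddMonoidHom.mem_ker, cycleClass_eq_zero_iff]
  exact ⟨fun ⟨t, ht⟩ => ⟨t, congrArg Subtype.val ht⟩, fun ⟨t, ht⟩ => ⟨t, Subtype.ext ht⟩⟩

theorem exactAt_secCx (n : ℤ) [Subsingleton (HT (C j.opensRange V) I n)] : (secCx j V I).ExactAt n := by
  obtain ⟨e⟩ := nonempty_homology_equiv j V I n
  exact (HomologicalComplex.exactAt_iff_isZero_homology _ _).2
    (@AddCommGrpCat.isZero_of_subsingleton _ e.toEquiv.subsingleton)

end Groth.L17.LocCx
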