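import Groth.Agent.L17.LocCx.Hom
import Groth.Agent.L10.GammaZ.Orth
import Groth.Agent.L10.ClassRes
import Groth.Agent.L16.CohClosedPush
import Groth.Agent.L18.LocFreeTilde
import Groth.Agent.L04.Depth2
import Groth.Agent.L29.DCoh.Amplitude
import Groth.Agent.L04.SupportSh.DepthStalk
import Groth.Agent.S6034
import Groth.Agent.L10.DerTrunc
import Groth.Agent.L29.DCoh.RpushQCoh

/-!
# Local cohomology of complexes of locally free modules below twice the depth
-/

set_option autoImplicit false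
set_option backward.isDefEq.respectTransparency false
set_option backward.isDefEq.respectTransparency.types false
set_option linter.style.haveILetI false

universe u

open CategoryTheory CategoryTheory.Limits AlgebraicGeometry TopologicalSpace Opposite DerivedCategory E1Deg

attribute [local instance] HasDerivedCategory.standard

noncomputable section

namespace Groth.L17.LocCx

variable {U X : Scheme.{u}} [IsLocallyNoetherian X] (j : U ⟶ X) [IsOpenImmersion j] (d : ℕ)

theorem subsingleton_HT_lt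
    (hdepth : ∀ y : ↥X, y ∉ Set.range j.base →
      (d : ℕ∞) ≤ LocCoh.depth ↑(X.presheaf.stalk y) ↑(X.presheaf.stalk y))
    (K : CochainComplex X.Modules ℤ) [K.IsStrictlyGE (d : ℤ)] (hKlf : ∀ i : ℤ, FlatMod.IsFinLocFree (K.X i))
    (V : X.Opens) (n : ℤ) (hn : n < 2 * (d : ℤ)) : Subsingleton (HT (C j.opensRange V) K n) := by
  haveI := Groth.L00.Tensor.grothendieckAbelian_modules X
  refine subsingleton_HT_of_graded _ K d n fun m hm hmn => ?_
  obtain ⟨q, hq⟩ : ∃ q : ℕ, m + q = n := ⟨(n - m).toNat, by omega⟩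
  have hqd : q < d := by omega
  let M := K.X m
  have hM := hKlf m
  have hFP := Groth.L18.LFP.isFP_of_isFinLocFree M hM
  haveI : Coh.IsQCoh M := { nonempty_quasicoherentData := ⟨hFP.exists_quasicoherentData.choose⟩ }
  have hcoh : Coh.IsCoh M := Groth.L16.CohClosedPush.isCoh_of_finite_sections M fun x => by
    obtain ⟨W, hW, hxW, -⟩ := exists_isAffineOpen_mem_and_subset (x := x) (U := ⊤) trivial
    haveI := Groth.L20.ModStalk.finitePresentation_sections M hFP hW
    exact ⟨W, hxW, hW, inferInstance⟩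
  have hloc : ∀ i < d, IsZero ((LocCohZ.HZsh (X := X.toTopCat) j.opensRange i).obj (Coh.toAb M)) :=
    (Groth.Agent.S6034.result X j.opensRange M hcoh d).2 fun x hx => by
      haveI := Groth.L18.LFP.finite_stalk M hFP x
      haveI := Groth.L18.LFP.free_stalk M hM x
      exact Groth.L04.le_idealDepth_free _ _ (hdepth x hx)
  let J := injectiveResolution M
  refine subsingleton_single_of_exact _ M J m n q hq fun f hf => ?_
  let f' : C j.opensRange V ⟶ J.cocomplex.X q := f ≫ (J.cochainComplexXIso q q rfl).hom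
  have hf' : f' ≫ J.cocomplex.d q (q + 1) = 0 := by
    rw [← cancel_mono (J.cochainComplexXIso ((q : ℤ) + 1) (q + 1) (by omega)).inv]
    rw [J.cochainComplex_d (q : ℤ) ((q : ℤ) + 1) q (q + 1) rfl (by omega)] at hf
    simpa [f'] using hf
  obtain ⟨g, hg⟩ := exists_factor_res j.opensRange V J d hloc q hqd f' hf'
  obtain _ | q' := q
  · refine ⟨0, ?_⟩
    rw [zero_comp]
    have : f' = 0 := by
      rw [← hg, J.cocomplex.shape _ _ (by simp), comp_zero]
    rw [← cancel_mono (J.cochainComplexXIso ((0 : ℕ) : ℤ) 0 rfl).hom, zero_comp]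
    exact this.symm
  · refine ⟨g ≫ (J.cochainComplexXIso _ (q' + 1 - 1) (by omega)).inv, ?_⟩
    rw [J.cochainComplex_d (((q' + 1 : ℕ) : ℤ) - 1) ((q' + 1 : ℕ) : ℤ) (q' + 1 - 1) (q' + 1) (by omega) rfl,
      Category.assoc, Iso.inv_hom_id_assoc, reassoc_of% hg]
    simp [f']

theorem exists_resolution
    (K : CochainComplex X.Modules ℤ) [K.IsStrictlyGE (d : ℤ)] :
    ∃ I : CochainComplex X.Modules ℤ, I.IsKInjective ∧ I.IsStrictlyGE (d : ℤ) ∧
      Nonempty (DCoh.toD X K ≅ DerivedCategory.Q.obj I) := by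
  haveI := Groth.L00.Tensor.grothendieckAbelian_modules X
  obtain ⟨I, s, hI, hinj, -, hs⟩ := Groth.L10.ClassRes.exists_res (fun M : X.Modules => Injective M)
    (fun M => ⟨Injective.under M, Injective.ι M, inferInstance, inferInstance⟩)
    ⟨_, isZero_zero X.Modules, (isZero_zero X.Modules).injective⟩ K (d : ℤ)
  haveI := hI
  haveI := hs
  haveI : ∀ n, Injective (I.X n) := hinj
  haveI : IsIso (DerivedCategory.Q.map s) := (DerivedCategory.isIso_Q_map_iff_quasiIso _ _).2 inferInstance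
  exact ⟨I, CochainComplex.isKInjective_of_injective I (d : ℤ), hI, ⟨asIso (DerivedCategory.Q.map s)⟩⟩

omit [IsLocallyNoetherian X] in
theorem nonempty_sectZ_iso [CxOX.HasRsectZ j] (I : CochainComplex X.Modules ℤ) [I.IsKInjective] :
    Nonempty ((CxOX.RsectZ j).obj (DerivedCategory.Q.obj I) ≅
      DerivedCategory.Q.obj (((CxOX.sectZAb j).mapHomologicalComplex (ComplexShape.up ℤ)).obj I)) := by
  haveI := Groth.L29.DC.QRlim.enoughKInj X
  let q := HomotopyCategory.quotient X.Modules (ComplexShape.up ℤ)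
  let η := (CxOX.sectZKh j).totalRightDerivedUnit DerivedCategory.Qh
    (HomotopyCategory.quasiIso X.Modules (ComplexShape.up ℤ))
  haveI : IsIso (η.app (q.obj I)) := Groth.L10.KInjDerived.isIso_app_quotient (RF := CxOX.RsectZ j) η I
  exact ⟨(CxOX.RsectZ j).mapIso ((DerivedCategory.quotientCompQhIso X.Modules).symm.app I) ≪≫
    (asIso (η.app (q.obj I))).symm ≪≫
    DerivedCategory.Qh.mapIso (((CxOX.sectZAb j).mapHomotopyCategoryFactors _).app I) ≪≫
    (DerivedCategory.quotientCompQhIso AddCommGrpCat.{u}).app _⟩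

omit [IsLocallyNoetherian X] in
theorem nonempty_homology_RsectZ [CxOX.HasRsectZ j] (I : CochainComplex X.Modules ℤ) [I.IsKInjective] (n : ℤ) :
    Nonempty ((DerivedCategory.homologyFunctor AddCommGrpCat.{u} n).obj
      ((CxOX.RsectZ j).obj (DerivedCategory.Q.obj I)) ≃+ HT (C j.opensRange ⊤) I n) := by
  obtain ⟨e⟩ := nonempty_sectZ_iso j I
  obtain ⟨e'⟩ := nonempty_homology_equiv j ⊤ I n
  let c : ((CxOX.sectZAb j).mapHomologicalComplex (ComplexShape.up ℤ)).obj I ≅ secCx j ⊤ I :=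
    HomologicalComplex.Hom.isoOfComponents (fun _ => Iso.refl _) fun p q _ => by
      simp only [Iso.refl_hom, Category.id_comp, Category.comp_id]
      rfl
  exact ⟨(((DerivedCategory.homologyFunctor AddCommGrpCat.{u} n).mapIso e ≪≫
    (DerivedCategory.homologyFunctorFactors AddCommGrpCat.{u} n).app _ ≪≫
    (HomologicalComplex.homologyFunctor AddCommGrpCat.{u} (ComplexShape.up ℤ) n).mapIso c).addCommGroupIsoToAddEquiv).trans e'⟩

theorem isZero_homology_RsectZ [CxOX.HasRsectZ j]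
    (hdepth : ∀ y : ↥X, y ∉ Set.range j.base →
      (d : ℕ∞) ≤ LocCoh.depth ↑(X.presheaf.stalk y) ↑(X.presheaf.stalk y))
    (K : CochainComplex X.Modules ℤ) (hK : ∀ i : ℤ, i < (d : ℤ) → IsZero (K.X i))
    (hKlf : ∀ i : ℤ, FlatMod.IsFinLocFree (K.X i)) (n : ℤ) (hn : n < 2 * (d : ℤ)) :
    IsZero ((DerivedCategory.homologyFunctor AddCommGrpCat.{u} n).obj
      ((CxOX.RsectZ j).obj (DCoh.toD X K))) := by
  haveI : K.IsStrictlyGE (d : ℤ) := (CochainComplex.isStrictlyGE_iff _ _).2 hK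
  obtain ⟨I, hI, -, ⟨e⟩⟩ := exists_resolution d K
  obtain ⟨e'⟩ := nonempty_homology_RsectZ j I n
  haveI := subsingleton_HT_congr _ e n (subsingleton_HT_lt j d hdepth K hKlf ⊤ n hn)
  exact (@AddCommGrpCat.isZero_of_subsingleton _ e'.toEquiv.subsingleton).of_iso
    ((DerivedCategory.homologyFunctor AddCommGrpCat.{u} n).mapIso ((CxOX.RsectZ j).mapIso e))

theorem isGE_gammaZ [CxOX.HasRgammaZ j]
    (hdepth : ∀ y : ↥X, y ∉ Set.range j.base →
      (d : ℕ∞) ≤ LocCoh.depth ↑(X.presheaf.stalk y) ↑(X.presheaf.stalk y))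
    (K : CochainComplex X.Modules ℤ) [K.IsStrictlyGE (d : ℤ)] (hKlf : ∀ i : ℤ, FlatMod.IsFinLocFree (K.X i))
    (I : CochainComplex X.Modules ℤ) [I.IsKInjective] (e : DCoh.toD X K ≅ DerivedCategory.Q.obj I) :
    ((CxOX.RgammaZ j).obj (DCoh.toD X K)).IsGE (2 * (d : ℤ)) := by
  obtain ⟨a, -⟩ := Groth.L10.GammaZ.exists_iso j I
  rw [DerivedCategory.isGE_iff]
  intro n hn
  refine IsZero.of_iso ?_ ((DerivedCategory.homologyFunctor X.Modules n).mapIso
    ((CxOX.RgammaZ j).mapIso e ≪≫ a.symm) ≪≫ (DerivedCategory.homologyFunctorFactors X.Modules n).app _)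
  haveI : (toAbShF X).Faithful := inferInstanceAs (SheafOfModules.toSheaf.{u} X.ringCatSheaf).Faithful
  refine (HomologicalComplex.exactAt_iff_isZero_homology _ _).1 ?_
  rw [HomologicalComplex.exactAt_iff' _ (n - 1) n (n + 1) (by simp) (by simp),
    ← ShortComplex.exact_map_iff_of_faithful _ (toAbShF X)]
  refine Groth.L17.exact_of_sections _ fun V s hs => ?_
  haveI := subsingleton_HT_congr _ e n (subsingleton_HT_lt j d hdepth K hKlf V n hn)
  have h := exactAt_secCx j V I n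
  rw [HomologicalComplex.exactAt_iff' _ (n - 1) n (n + 1) (by simp) (by simp), ShortComplex.ab_exact_iff] at h
  exact h s hs

/-- Morphisms from an object of degree `0` into an object in degrees `≥ n`. -/
theorem nonempty_hom_ge_equiv {A : Type (u + 1)} [Category.{u} A] [Abelian A] (T : A) (L : DerivedCategory A)
    (n : ℤ) [L.IsGE n] :
    Nonempty (((DerivedCategory.singleFunctor A 0).obj T ⟶ L⟦n⟧) ≃+
      (T ⟶ (DerivedCategory.homologyFunctor A n).obj L)) := by
  haveI : (L⟦n⟧).IsGE 0 := DerivedCategory.TStructure.t.isGE_shift L n n 0 (by omega)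
  let t := DerivedCategory.TStructure.t (C := A)
  let H := DerivedCategory.homologyFunctor A 0
  let Y := L⟦n⟧
  haveI : t.IsGE Y 0 := ‹_›
  let τ := (t.truncLT 1).obj Y
  haveI : τ.IsGE 0 := inferInstanceAs (t.IsGE ((t.truncLT 1).obj Y) 0)
  haveI : τ.IsLE 0 := t.isLE_truncLT_obj Y 1 0
  obtain ⟨M, ⟨eM⟩⟩ := DerivedCategory.exists_iso_singleFunctor_obj_of_isGE_of_isLE τ 0
  have hb := Groth.L10.isIso_H_ι 1 0 (by omega) Y
  let f₁ : ((DerivedCategory.singleFunctor A 0).obj T ⟶ τ) →+ ((DerivedCategory.singleFunctor A 0).obj T ⟶ Y) :=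
    AddMonoidHom.mk' (fun g => g ≫ (t.truncLTι 1).app Y) fun a b => Preadditive.add_comp _ _ _ _ _ _
  haveI : t.IsLE ((DerivedCategory.singleFunctor A 0).obj T) (1 - 1) := by
    rw [sub_self]
    infer_instance
  have hf₁ : Function.Bijective f₁ := by
    refine ⟨(injective_iff_map_eq_zero f₁).2 fun g hg => ?_, fun g => ?_⟩
    · exact t.to_truncLT_obj_ext (hg.trans zero_comp.symm)
    · exact ⟨t.liftTruncLT g 0 1 rfl, t.liftTruncLT_ι g 0 1 rfl⟩
  let S := DerivedCategory.singleFunctor A 0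
  let f₂ : (T ⟶ M) →+ (S.obj T ⟶ τ) :=
    AddMonoidHom.mk' (fun g => S.map g ≫ eM.inv) fun a b => by simp
  have hf₂ : Function.Bijective f₂ :=
    ⟨fun a b h => S.map_injective ((cancel_mono eM.inv).1 h),
      fun g => ⟨S.preimage (g ≫ eM.hom), by simp [f₂]⟩⟩
  let e₂ : (T ⟶ M) ≃+ (S.obj T ⟶ τ) := AddEquiv.ofBijective f₂ hf₂
  let eH : M ≅ (DerivedCategory.homologyFunctor A n).obj L :=
    ((DerivedCategory.singleFunctorCompHomologyFunctorIso A 0).app M).symm ≪≫ H.mapIso eM.symm ≪≫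
      @asIso _ _ _ _ (H.map ((t.truncLTι 1).app Y)) hb ≪≫
      ((DerivedCategory.homologyFunctor A 0).shiftIso n 0 n (by omega)).app L
  exact ⟨((AddEquiv.ofBijective f₁ hf₁).symm.trans e₂.symm).trans
    { toFun := fun g => g ≫ eH.hom
      invFun := fun g => g ≫ eH.inv
      left_inv := fun g => by simp
      right_inv := fun g => by simp
      map_add' := fun a b => Preadditive.add_comp _ _ _ _ _ _ }⟩

theorem nonempty_sections_HD [CxOX.HasRgammaZ j] [CxOX.HasRsectZ j]
    (hdepth : ∀ y : ↥X, y ∉ Set.range j.base →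
      (d : ℕ∞) ≤ LocCoh.depth ↑(X.presheaf.stalk y) ↑(X.presheaf.stalk y))
    (K : CochainComplex X.Modules ℤ) (hK : ∀ i : ℤ, i < (d : ℤ) → IsZero (K.X i))
    (hKlf : ∀ i : ℤ, FlatMod.IsFinLocFree (K.X i)) :
    Nonempty (↑((Coh.toAb (DCoh.HD ((CxOX.RgammaZ j).obj (DCoh.toD X K)) (2 * (d : ℤ)))).obj.obj (op ⊤)) ≃+
      ↑((DerivedCategory.homologyFunctor AddCommGrpCat.{u} (2 * (d : ℤ))).obj
        ((CxOX.RsectZ j).obj (DCoh.toD X K)))) := by
  haveI : DCoh.HasRpush j := Groth.L29.DC.RpushQC.hasRpush j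
  haveI : K.IsStrictlyGE (d : ℤ) := (CochainComplex.isStrictlyGE_iff _ _).2 hK
  obtain ⟨I, hI, -, ⟨e⟩⟩ := exists_resolution d K
  haveI := hI
  let n : ℤ := 2 * (d : ℤ)
  let R := (CxOX.RgammaZ j).obj (DCoh.toD X K)
  haveI : R.IsGE n := isGE_gammaZ j d hdepth K hKlf I e
  let T := (DerivedCategory.singleFunctor X.Modules 0).obj (C j.opensRange ⊤)
  obtain ⟨e₁⟩ := nonempty_homology_RsectZ j I n
  obtain ⟨e₄⟩ := nonempty_hom_ge_equiv (C j.opensRange ⊤) R n
  have hsupp : IsZero ((DCoh.restrictD j).obj T) :=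
    ((DerivedCategory.singleFunctor U.Modules 0).map_isZero (isZero_restrict j ⊤)).of_iso
      (((Scheme.Modules.restrictFunctor j).mapDerivedCategorySingleFunctor 0).app _)
  have hbij : Function.Bijective fun φ : T ⟶ R⟦n⟧ => φ ≫ ((CxOX.RgammaZToId j).app (DCoh.toD X K))⟦n⟧' := by
    have hA : IsZero ((DCoh.restrictD j).obj (T⟦-n⟧)) :=
      ((shiftFunctor (DCoh.D U) (-n)).map_isZero hsupp).of_iso (((DCoh.restrictD j).commShiftIso (-n)).app T)
    have h := Groth.L10.GammaZ.bijective j hA (DCoh.toD X K)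
    let adj := (shiftEquiv' (DCoh.D X) (-n) n (by omega)).toAdjunction
    have : (fun φ : T ⟶ R⟦n⟧ => φ ≫ ((CxOX.RgammaZToId j).app (DCoh.toD X K))⟦n⟧') =
        (adj.homEquiv T _) ∘ (fun φ => φ ≫ (CxOX.RgammaZToId j).app (DCoh.toD X K)) ∘ (adj.homEquiv T R).symm := by
      funext φ
      simp only [Function.comp_apply]
      rw [adj.homEquiv_naturality_right, Equiv.apply_symm_apply]
      rfl
    rw [this]
    exact (adj.homEquiv _ _).bijective.comp (h.comp (adj.homEquiv _ _).symm.bijective)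
  let e₅ : (T ⟶ R⟦n⟧) ≃+ HT (C j.opensRange ⊤) I n :=
    (AddEquiv.ofBijective (AddMonoidHom.mk' (fun φ : T ⟶ R⟦n⟧ => φ ≫ ((CxOX.RgammaZToId j).app
      (DCoh.toD X K))⟦n⟧') fun a b => Preadditive.add_comp _ _ _ _ _ _) hbij).trans
    { toFun := fun g => g ≫ e.hom⟦n⟧'
      invFun := fun g => g ≫ e.inv⟦n⟧'
      left_inv := fun g => by simp [← Functor.map_comp]
      right_inv := fun g => by simp [← Functor.map_comp]
      map_add' := fun a b => Preadditive.add_comp _ _ _ _ _ _ }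
  let M := DCoh.HD R n
  have hM : IsZero ((Scheme.Modules.restrictFunctor j).obj M) :=
    ((DerivedCategory.homologyFunctor U.Modules n).map_isZero (Groth.L10.GammaZ.isZero_restrict j (DCoh.toD X K))).of_iso
      (Groth.L29.DC.HDResIso j R n).symm
  haveI : IsIso ((CxOX.gammaZι j).app M) := by
    have h0 : (Scheme.Modules.restrictAdjunction j).unit.app M = 0 :=
      ((Scheme.Modules.pushforward j).map_isZero hM).eq_of_tgt _ _
    show IsIso (kernel.ι _)
    exact kernel.ι_of_zero h0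
  let e₆ : ((DCoh.gammaZ j).obj M).presheaf.obj (op ⊤) ≅ M.presheaf.obj (op ⊤) :=
    (toAbShF X ⋙ Groth.L17.GrothSS.secFun (Opens.grothendieckTopology X) ⊤).mapIso (asIso ((CxOX.gammaZι j).app M))
  exact ⟨((((e₆.symm.addCommGroupIsoToAddEquiv).trans (secEquiv j ⊤ M).symm).trans e₄.symm).trans e₅).trans
    (e₁.symm.trans ((DerivedCategory.homologyFunctor AddCommGrpCat.{u} n).mapIso
      ((CxOX.RsectZ j).mapIso e)).symm.addCommGroupIsoToAddEquiv)⟩

end Groth.L17.LocCx
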