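import Groth.Agent.L29.Sib.InjSum
import Groth.Agent.L04.SupportSh.Sections
import Groth.Agent.L04.SupportSh.Flasque
import Groth.Agent.L04.SupportSh.Criteria
import Groth.Agent.L17.SectSupp
import Groth.Agent.L17.ExactThen
import Groth.Agent.L18.GammaLCAb
import Groth.Agent.L17.PushMV

/-!
# The object corepresenting sections with support
-/

set_option autoImplicit false
set_option backward.isDefEq.respectTransparency false
set_option backward.isDefEq.respectTransparency.types false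
set_option linter.style.haveILetI false

universe u

open CategoryTheory CategoryTheory.Limits AlgebraicGeometry TopologicalSpace Opposite HomologicalComplex
open Groth.L18.Frame (rs rs_rs rs_self)
open Groth.L29.LocNoeth (gen genSec)

attribute [local instance] HasDerivedCategory.standard

noncomputable section

namespace Groth.L17.LocCx

variable {X : Scheme.{u}} (R V : X.Opens)

theorem top'_le {V W : X.Opens} (h : W ≤ V) : W.ι ''ᵁ ⊤ ≤ V.ι ''ᵁ ⊤ := by
  rw [Scheme.Opens.ι_image_top, Scheme.Opens.ι_image_top]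
  exact h

theorem app_rs {M N : X.Modules} (φ : M ⟶ N) {U V : X.Opens} (h : V ≤ U) (s : Γ(M, U)) :
    φ.app V (rs M h s) = rs N h (φ.app U s) :=
  NatTrans.naturality_apply (φ := φ.mapPresheaf) (homOfLE h).op s

/-- The inclusion `j_! O_(V ∩ R) ⟶ j_! O_V`. -/
def inclGen : gen (V ⊓ R) ⟶ gen V :=
  (Groth.L29.LocNoeth.exists_hom_gen (rs (gen V) (top'_le inf_le_left) (genSec V))).choose

theorem inclGen_genSec : (inclGen R V).app ((V ⊓ R).ι ''ᵁ ⊤) (genSec (V ⊓ R)) =
    rs (gen V) (top'_le inf_le_left) (genSec V) :=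
  (Groth.L29.LocNoeth.exists_hom_gen (rs (gen V) (top'_le inf_le_left) (genSec V))).choose_spec

/-- `C` corepresents the sections over `V` vanishing on `V ∩ R`. -/
def C : X.Modules := cokernel (inclGen R V)

/-- The section attached to a morphism out of `C`. -/
def secOf {M : X.Modules} (φ : C R V ⟶ M) : Γ(M, V.ι ''ᵁ ⊤) :=
  (cokernel.π (inclGen R V) ≫ φ).app _ (genSec V)

theorem secOf_comp {M N : X.Modules} (φ : C R V ⟶ M) (ψ : M ⟶ N) :
    secOf R V (φ ≫ ψ) = ψ.app _ (secOf R V φ) := rfl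

theorem rs_secOf {M : X.Modules} (φ : C R V ⟶ M) :
    rs M (top'_le (inf_le_left : V ⊓ R ≤ V)) (secOf R V φ) = 0 := by
  have h := congr(($(cokernel.condition (inclGen R V)) ≫ φ).app ((V ⊓ R).ι ''ᵁ ⊤) (genSec (V ⊓ R)))
  rw [Category.assoc, zero_comp] at h
  refine Eq.trans ?_ (h.trans rfl)
  show _ = (cokernel.π (inclGen R V) ≫ φ).app _ ((inclGen R V).app _ (genSec (V ⊓ R)))
  rw [inclGen_genSec, app_rs]
  rfl

theorem secOf_injective {M : X.Modules} {φ ψ : C R V ⟶ M} (h : secOf R V φ = secOf R V ψ) : φ = ψ :=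
  (cancel_epi (cokernel.π (inclGen R V))).1 (Groth.L29.LocNoeth.hom_ext_gen h)

theorem secOf_zero {M : X.Modules} : secOf R V (0 : C R V ⟶ M) = 0 := by
  rw [secOf, comp_zero]
  rfl

theorem exists_secOf {M : X.Modules} (m : Γ(M, V.ι ''ᵁ ⊤))
    (hm : rs M (top'_le (inf_le_left : V ⊓ R ≤ V)) m = 0) : ∃ φ : C R V ⟶ M, secOf R V φ = m := by
  obtain ⟨ψ, hψ⟩ := Groth.L29.LocNoeth.exists_hom_gen m
  refine ⟨cokernel.desc _ ψ (Groth.L29.LocNoeth.hom_ext_gen ?_), ?_⟩
  · show ψ.app _ ((inclGen R V).app _ (genSec (V ⊓ R))) = _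
    rw [inclGen_genSec, app_rs, hψ, hm]
    rfl
  · rw [secOf, cokernel.π_desc, hψ]

theorem res_iff {M : X.Modules} (m : Γ(M, V.ι ''ᵁ ⊤)) :
    rs M (top'_le (inf_le_left : V ⊓ R ≤ V)) m = 0 ↔
      rs M (inf_le_left : V.ι ''ᵁ ⊤ ⊓ R ≤ V.ι ''ᵁ ⊤) m = 0 := by
  have e : (V ⊓ R).ι ''ᵁ ⊤ = V.ι ''ᵁ ⊤ ⊓ R := by rw [Scheme.Opens.ι_image_top, Scheme.Opens.ι_image_top]
  constructor <;> intro h
  · rw [← rs_rs M (top'_le (inf_le_left : V ⊓ R ≤ V)) e.ge m, h]
    exact map_zero _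
  · rw [← rs_rs M (inf_le_left : V.ι ''ᵁ ⊤ ⊓ R ≤ V.ι ''ᵁ ⊤) e.le m, h]
    exact map_zero _

theorem preservesFiniteLimits_sectSuppF {T : TopCat.{u}} (U : Opens T) :
    PreservesFiniteLimits (LocCohZ.sectSuppF U) := by
  refine ((LocCohZ.sectSuppF U).preservesFiniteLimits_tfae.out 0 3).1 (fun S hS => ?_)
  haveI := hS.mono_f
  have hinj : ∀ O : Opens T, Function.Injective (S.f.hom.app (op O)) := fun O =>
    (AddCommGrpCat.mono_iff_injective _).1
      ((Groth.L17.GrothSS.secFun (Opens.grothendieckTopology T) O).map_mono (f := S.f))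
  have hex : ∀ (O : Opens T) (b : S.X₂.obj.obj (op O)), S.g.hom.app (op O) b = 0 → ∃ a, S.f.hom.app (op O) a = b :=
    fun O b hb => TopCat.Sheaf.sections_exact_of_left_exact hS.1 hS.2 (U := O) b hb
  exact ⟨Groth.L17.exact_of_sections _ fun O y hy =>
      Groth.L18.GammaLC.sectSupp_map_exact U S.f S.g hex hinj O y hy,
    Groth.L17.mono_of_injective_app _ fun O => Groth.L18.GammaLC.sectSupp_map_injective U S.f hinj O⟩

/-- Morphisms out of `C` into an injective resolution are exact below the vanishing range of local cohomology. -/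
theorem exists_factor_res {E : X.Modules} [HasInjectiveResolutions X.Modules] (J : InjectiveResolution E) (d : ℕ)
    (h : ∀ q < d, IsZero ((LocCohZ.HZsh (X := X.toTopCat) R q).obj (Coh.toAb E))) (q : ℕ) (hq : q < d)
    (f : C R V ⟶ J.cocomplex.X q) (hf : f ≫ J.cocomplex.d q (q + 1) = 0) :
    ∃ g : C R V ⟶ J.cocomplex.X (q - 1), g ≫ J.cocomplex.d (q - 1) q = f := by
  haveI := preservesFiniteLimits_sectSuppF (T := X.toTopCat) R
  let A := (((toAbShF X) ⋙ LocCohZ.sectSuppF (X := X.toTopCat) R).mapHomologicalComplex (ComplexShape.up ℕ)).obj J.cocomplex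
  have hfl : ∀ i, TopCat.Sheaf.IsFlasque (A.X i) := fun i => by
    haveI := Groth.L17.PushMV.isFlasque_of_injective (J.cocomplex.X i)
    exact Groth.L17.SectSupp.isFlasque_sectSupp (X := X.toTopCat) R _
  have hex : ∀ i < d, A.ExactAt i := fun i hi => by
    obtain ⟨e⟩ := Groth.L17.GrothSS.nonempty_rightDerived_exact_comp (toAbShF X)
      (LocCohZ.sectSuppF (X := X.toTopCat) R) (fun Q hQ p hp => by
        haveI := Groth.L17.PushMV.isFlasque_of_injective Q
        obtain ⟨k, rfl⟩ : ∃ k, p = k + 1 := ⟨p - 1, by omega⟩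
        exact Groth.L04.SupportSh.isZero_HZsh_succ (X := X.toTopCat) R _ k fun W =>
          Groth.L04.SupportSh.res_surjective_of_flasque _ inferInstance k _) E i
    exact (exactAt_iff_isZero_homology _ _).2
      (IsZero.of_iso ((h i hi).of_iso e) (J.isoRightDerivedObj _ i).symm)
  have hsec := Groth.L04.SupportSh.exactAt_sect (X := X.toTopCat) (V.ι ''ᵁ ⊤) A hfl d hex q hq
  obtain ⟨s, hs⟩ := Groth.L17.SectSupp.exists_incl_app_eq (X := X.toTopCat) R (Coh.toAb (J.cocomplex.X q))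
    (V.ι ''ᵁ ⊤) (secOf R V f) ((res_iff R V _).1 (rs_secOf R V f))
  have hd : ∀ (i k : ℕ) (t : ((LocCohZ.sectSuppF (X := X.toTopCat) R).obj (Coh.toAb (J.cocomplex.X i))).obj.obj
      (op (V.ι ''ᵁ ⊤))), (Groth.L17.SectSupp.incl (X := X.toTopCat) R (Coh.toAb (J.cocomplex.X k))).hom.app
        (op (V.ι ''ᵁ ⊤)) ((A.d i k).hom.app (op (V.ι ''ᵁ ⊤)) t) = (J.cocomplex.d i k).app (V.ι ''ᵁ ⊤)
        ((Groth.L17.SectSupp.incl (X := X.toTopCat) R (Coh.toAb (J.cocomplex.X i))).hom.app (op (V.ι ''ᵁ ⊤)) t) :=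
    fun i k t => congr($(Groth.L17.SectSupp.incl_map (X := X.toTopCat) R
      ((toAbShF X).map (J.cocomplex.d i k))).hom.app (op (V.ι ''ᵁ ⊤)) t)
  have hs0 : (A.d q (q + 1)).hom.app (op (V.ι ''ᵁ ⊤)) s = 0 := by
    apply Groth.L17.SectSupp.incl_app_injective (X := X.toTopCat) R
    rw [hd, hs, map_zero]
    exact (secOf_comp R V f _).symm.trans ((congrArg (secOf R V) hf).trans (secOf_zero R V))
  obtain ⟨t, ht⟩ : ∃ t, (A.d (q - 1) q).hom.app (op (V.ι ''ᵁ ⊤)) t = s := by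
    rw [HomologicalComplex.exactAt_iff' _ (q - 1) q (q + 1) (by cases q <;> simp) ((ComplexShape.up ℕ).next_eq' rfl),
      ShortComplex.ab_exact_iff] at hsec
    exact hsec s hs0
  have hmem := Groth.L17.SectSupp.incl_app_mem (X := X.toTopCat) R (Coh.toAb (J.cocomplex.X (q - 1))) (V.ι ''ᵁ ⊤) t
  obtain ⟨g, hg⟩ := exists_secOf R V _ ((res_iff R V _).2 hmem)
  refine ⟨g, secOf_injective R V ?_⟩
  rw [secOf_comp, hg, ← hd, ht, hs]

/-- Morphisms from `C` into an object pushed forward from `R` vanish. -/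
theorem hom_push_eq_zero (N : (R : Scheme.{u}).Modules) (φ : C R V ⟶ (Scheme.Modules.pushforward R.ι).obj N) :
    φ = 0 := by
  refine secOf_injective R V ?_
  rw [secOf_zero]
  have h := rs_secOf R V φ
  have e : R.ι ⁻¹ᵁ (V.ι ''ᵁ ⊤) ≤ R.ι ⁻¹ᵁ ((V ⊓ R).ι ''ᵁ ⊤) := by
    rw [Scheme.Opens.ι_image_top, Scheme.Opens.ι_image_top]
    exact fun x hx => ⟨hx, x.2⟩
  refine (rs_self N le_rfl (secOf R V φ)).symm.trans ?_
  refine Eq.trans ?_ ((congrArg (fun z => rs N e z) h).trans (map_zero _))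
  exact (rs_rs N (R.ι.preimage_mono (top'_le (inf_le_left : V ⊓ R ≤ V))) e _).symm

end Groth.L17.LocCx
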